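import Groth.Agent.Lib.BlowK17.Regular
import Groth.Agent.Lib.RegLoc.Basic
import Mathlib.RingTheory.Regular.Flat

/-!
# Regularity along a regular centre with regular quotient
-/

set_option autoImplicit false
set_option linter.all false
set_option backward.isDefEq.respectTransparency false

universe u

open CategoryTheory CategoryTheory.Limits AlgebraicGeometry TopologicalSpace Opposite IsLocalRing
open RingTheory.Sequence

noncomputable section

namespace GrothLib.BlowK17

theorem isRegularLocalRing_of_ofList : ∀ (n : ℕ) (R : Type u) [CommRing R] [IsLocalRing R] [IsNoetherianRing R]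
    (rs : List R), rs.length = n → IsWeaklyRegular R rs → (∀ x ∈ rs, x ∈ maximalIdeal R) →
    IsRegularLocalRing (R ⧸ Ideal.ofList rs) → IsRegularLocalRing R
  | 0, R, _, _, _, rs, hn, _, _, h => by
    obtain rfl := List.length_eq_zero_iff.1 hn
    haveI := h
    exact IsRegularLocalRing.of_ringEquiv ((Ideal.quotEquivOfEq (Ideal.ofList_nil (R := R))).trans (RingEquiv.quotientBot R))
  | n + 1, R, _, _, _, x :: rs, hn, hw, hm, h => by
    haveI := h
    rw [isWeaklyRegular_cons_iff] at hw
    have hx := hm x List.mem_cons_self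
    let S := R ⧸ Ideal.span {x}
    haveI : Nontrivial S := Ideal.Quotient.nontrivial_iff.2
      (ne_top_of_le_ne_top (maximalIdeal.isMaximal R).ne_top (by rwa [Ideal.span_singleton_le_iff_mem]))
    haveI : IsLocalRing S := IsLocalRing.of_surjective' (Ideal.Quotient.mk _) Ideal.Quotient.mk_surjective
    have e : S ≃ₗ[R] QuotSMulTop x R := Submodule.quotEquivOfEq _ _ (by simp [← Submodule.ideal_span_singleton_smul])
    have hw' : IsWeaklyRegular S (rs.map (algebraMap R S)) := by
      rw [isWeaklyRegular_map_algebraMap_iff S S, e.isWeaklyRegular_congr]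
      exact hw.2
    have hsurj : Function.Surjective (Ideal.Quotient.mk (Ideal.span {x})) := Ideal.Quotient.mk_surjective
    have hm' : ∀ y ∈ rs.map (algebraMap R S), y ∈ maximalIdeal S := by
      intro y hy
      obtain ⟨r, hr, rfl⟩ := List.mem_map.1 hy
      intro hu
      haveI := IsLocalHom.of_surjective (Ideal.Quotient.mk (Ideal.span {x})) hsurj
      exact hm r (List.mem_cons_of_mem _ hr) (isUnit_of_map_unit (Ideal.Quotient.mk (Ideal.span {x})) r hu)
    have hI : (Ideal.span {x}) ⊔ Ideal.ofList rs = Ideal.ofList (x :: rs) := by rw [Ideal.ofList_cons]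
    haveI : IsRegularLocalRing (S ⧸ Ideal.ofList (rs.map (algebraMap R S))) := by
      rw [← Ideal.map_ofList]
      exact IsRegularLocalRing.of_ringEquiv (R := R ⧸ Ideal.ofList (x :: rs))
        ((Ideal.quotEquivOfEq hI.symm).trans (DoubleQuot.quotQuotEquivQuotSup _ _).symm)
    haveI : IsRegularLocalRing S := isRegularLocalRing_of_ofList n S _ (by simpa using hn) hw' hm' inferInstance
    exact GrothLib.RegLoc.isRegularLocalRing_of_quotient hx
      (mem_nonZeroDivisors_iff_right.2 fun m hm => hw.1.right_eq_zero_of_smul (by rw [smul_eq_mul, mul_comm]; exact hm))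

variable {X Y X₁ Y₁ : Scheme.{u}} {f : X ⟶ Y} {φ : Y₁ ⟶ Y} {f₁ : X₁ ⟶ Y₁} {ψ : X₁ ⟶ X}

theorem isRegular_at_center (hf : Mor2.IsRegularClosedImmersion f) [IsLocallyNoetherian Y]
    (hX : ∀ x : X, IsRegularLocalRing (X.presheaf.stalk x)) (z : X) :
    IsRegularLocalRing (Y.presheaf.stalk (f z)) := by
  haveI := hf.1
  obtain ⟨U, hU, hzU, rs, hreg, hker⟩ := hf.2 z
  letI : Algebra Γ(Y, U) (Y.presheaf.stalk (f z)) :=
    TopCat.Presheaf.algebra_section_stalk Y.presheaf (⟨f z, hzU⟩ : U)
  haveI := hU.isLocalization_stalk ⟨f z, hzU⟩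
  let ss := rs.map (algebraMap Γ(Y, U) (Y.presheaf.stalk (f z)))
  have hk : RingHom.ker (f.stalkMap z).hom = Ideal.ofList ss := by
    rw [GrothLib.RelReg.ker_stalkMap_eq_map f hU inferInstance z hzU, ← Scheme.Hom.ker_apply f ⟨U, hU⟩,
      hker, ← Ideal.map_ofList]
    rfl
  haveI := hX z
  have hsurj := SurjectiveOnStalks.stalkMap_surjective f z
  refine isRegularLocalRing_of_ofList _ _ ss rfl
    (hreg.toIsWeaklyRegular.of_isLocalization _ (hU.primeIdealOf ⟨f z, hzU⟩).asIdeal.primeCompl) (fun x hx => ?_)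
    (IsRegularLocalRing.of_ringEquiv (R := X.presheaf.stalk z)
      ((Ideal.quotEquivOfEq hk.symm).trans (RingHom.quotientKerEquivOfSurjective hsurj)).symm)
  exact le_maximalIdeal (RingHom.ker_ne_top (f.stalkMap z).hom) (hk ▸ Ideal.subset_span hx)

theorem isRegular_at_exceptional (hf : Mor2.IsRegularClosedImmersion f) (hφ : _root_.BlowUp.IsBlowUp φ f.ker)
    (hsq : IsPullback f₁ ψ φ f) [IsLocallyNoetherian Y] (hX : ∀ x : X, IsRegularLocalRing (X.presheaf.stalk x))
    (d : X₁) : IsRegularLocalRing (Y₁.presheaf.stalk (f₁ d)) := by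
  haveI := hf.1
  haveI := GrothLib.BlowUpProper.isProper_of_isBlowUp hφ
  haveI : IsLocallyNoetherian Y₁ := LocallyOfFiniteType.isLocallyNoetherian φ
  haveI : IsLocallyNoetherian X := LocallyOfFiniteType.isLocallyNoetherian f
  haveI : IsClosedImmersion f₁ := MorphismProperty.of_isPullback hsq.flip hf.1
  haveI := isRegular_exceptional hf hφ hsq hX d
  have hk : f₁.ker = _root_.BlowUp.exceptional φ f.ker := by
    rw [← hsq.isoPullback_hom_fst, Scheme.Hom.ker_comp_of_isIso]
    exact Scheme.IdealSheafData.ker_fst_of_isClosedImmersion f φ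
  obtain ⟨V, hV, s, hs, hI⟩ := hφ.1 (f₁ d)
  let sg := Y₁.presheaf.germ V.1 _ hV s
  have hker : RingHom.ker (f₁.stalkMap d).hom = Ideal.span {sg} := by
    rw [GrothLib.RelReg.ker_stalkMap_eq_map f₁ V.2 inferInstance d hV, ← Scheme.Hom.ker_apply f₁ V, hk, hI,
      Ideal.map_span, Set.image_singleton]
  have hsurj := SurjectiveOnStalks.stalkMap_surjective f₁ d
  haveI : IsRegularLocalRing (Y₁.presheaf.stalk (f₁ d) ⧸ Ideal.span {sg}) :=
    IsRegularLocalRing.of_ringEquiv (R := X₁.presheaf.stalk d)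
      ((Ideal.quotEquivOfEq hker.symm).trans (RingHom.quotientKerEquivOfSurjective hsurj)).symm
  refine GrothLib.RegLoc.isRegularLocalRing_of_quotient (x := sg) ?_ (GrothLib.BlowUp.germ_mem_nonZeroDivisors hs hV)
  rw [← Ideal.span_singleton_le_iff_mem, ← hker]
  exact le_maximalIdeal (RingHom.ker_ne_top _)

end GrothLib.BlowK17
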