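import Groth.Agent.Lib.ExcP1.Exceptional
import Groth.Agent.Lib.HodgeIndex.Pullback
import Groth.Agent.Lib.Nagata6.Charts
import Groth.Agent.Lib.PBFree17.FromPB
import Groth.Agent.Lib.PushKR17.Local
import Groth.Agent.Lib.BlowUpProper.Basic
import Groth.Agent.Lib.BlowUp.FlatBase

/-!
# The exceptional divisor of a regular centre is a bundle of projective spaces with twists the powers of the conormal module
-/

set_option autoImplicit false
set_option linter.all false
set_option backward.isDefEq.respectTransparency false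

universe u

open AlgebraicGeometry CategoryTheory CategoryTheory.Limits TopologicalSpace Opposite
open GrothLib.BlowUp17

noncomputable section

namespace GrothLib.BlowK17

variable {X Y X₁ Y₁ : Scheme.{u}} {f : X ⟶ Y} {φ : Y₁ ⟶ Y} {f₁ : X₁ ⟶ Y₁} {ψ : X₁ ⟶ X}

/-- Near every point the centre is cut out by a regular sequence of length the rank of its conormal module. -/
theorem exists_ctr_chart (hf : Mor2.IsRegularClosedImmersion f) {n : ℕ}
    (hC : FlatMod.IsFinLocFreeOfRank (n + 1) (Omega.conormal f)) (z : X) :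
    ∃ U : Y.affineOpens, f z ∈ U.1 ∧ ∃ a : Fin (n + 1) → Γ(Y, U.1),
      ctr a = f.ker.ideal U ∧ RingTheory.Sequence.IsWeaklyRegular Γ(Y, U.1) (List.ofFn a) := by
  haveI := hf.1
  obtain ⟨U, hU, hzU, rs, hreg, hker⟩ := hf.2 z
  have hT : IsAffineOpen (f ⁻¹ᵁ U) := hU.preimage f
  have hs : f.ker.ideal ⟨U, hU⟩ = Ideal.span (Set.range rs.get) := by rw [hker, Set.range_list_get]
  have hh1 := GrothLib.SeqKinds.isH1Regular_of_isKoszulRegularSeq rs
    (GrothLib.KoszulFwd.isKoszulRegularSeq_of_isWeaklyRegular _ hreg.toIsWeaklyRegular)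
  obtain ⟨e⟩ := GrothLib.RegImm12.exists_equiv_sections f f.ker le_rfl ⟨U, hU⟩ rs.get hs
    (fun a ha k => hs ▸ GrothLib.RegImm12.mem_span_of_h1 hh1 ha k) ⟨f ⁻¹ᵁ U, hT⟩ le_rfl
  haveI := H1Sheaf6.isQuasicoherent_idealMod f.ker
  haveI : (Omega.conormal f).IsQuasicoherent := FittSheaf.isQuasicoherent_pullback f _
  have hfr : FinCov.IsFrame (Omega.conormal f) (f ⁻¹ᵁ U) (fun k => e (Pi.single k 1)) := by
    refine Adj27.isFrame_of_affine _ hT _ ?_
    have : ⇑(Fintype.linearCombination Γ(X, f ⁻¹ᵁ U) fun k => e (Pi.single k 1)) = ⇑e := funext fun b => by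
      rw [Fintype.linearCombination_apply]
      simp only [← map_smul, ← map_sum]
      congr 1
      funext k
      simp [Finset.sum_apply, Pi.single_apply]
    show Function.Bijective ⇑(Fintype.linearCombination Γ(X, f ⁻¹ᵁ U) fun k => e (Pi.single k 1))
    rw [this]
    exact e.bijective
  obtain ⟨b⟩ := Euler.stalk_basis_of_frame hfr (x := z) hzU
  obtain ⟨V, e', hzV, he'⟩ := FinCov.exists_frame_nhd_of_rank hC z
  obtain ⟨b'⟩ := Euler.stalk_basis_of_frame he' hzV
  have hlen : rs.length = n + 1 := by simpa using Fintype.card_congr (b.indexEquiv b')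
  refine ⟨⟨U, hU⟩, hzU, fun i => rs.get (Fin.cast hlen.symm i), ?_, ?_⟩
  · rw [hker, ctr, Ideal.ofList]
    congr 1
    ext x
    refine ⟨?_, fun hx => ?_⟩
    · rintro ⟨i, rfl⟩
      exact List.get_mem _ _
    · obtain ⟨i, rfl⟩ := List.get_of_mem hx
      exact ⟨Fin.cast hlen i, rfl⟩
  · have : List.ofFn (fun i => rs.get (Fin.cast hlen.symm i)) = rs :=
      (List.ofFn_congr hlen.symm _).trans (List.ofFn_get rs)
    rw [this]
    exact hreg.toIsWeaklyRegular

theorem isInvertible_idealMod_ker (hf : Mor2.IsRegularClosedImmersion f) (hφ : _root_.BlowUp.IsBlowUp φ f.ker)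
    (hsq : IsPullback f₁ ψ φ f) : f₁.ker = _root_.BlowUp.exceptional φ f.ker ∧
      PicF.IsInvertible (ClSub.idealMod f₁.ker) ∧ PicF.IsInvertible (Omega.conormal f₁) := by
  haveI := hf.1
  haveI : IsClosedImmersion f₁ := MorphismProperty.of_isPullback hsq.flip hf.1
  have hk : f₁.ker = _root_.BlowUp.exceptional φ f.ker := by
    rw [← hsq.isoPullback_hom_fst, Scheme.Hom.ker_comp_of_isIso]
    exact Scheme.IdealSheafData.ker_fst_of_isClosedImmersion f φ
  have hI : PicF.IsInvertible (ClSub.idealMod f₁.ker) := by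
    rw [hk]
    exact GrothLib.IdealModSec.isInvertible_of_isEffCartier hφ.1
  exact ⟨hk, hI, GrothLib.Ample.isInvertible_pullback f₁ hI⟩

theorem exists_setup_exceptional (hf : Mor2.IsRegularClosedImmersion f) [IsLocallyNoetherian Y] {n : ℕ}
    (hC : FlatMod.IsFinLocFreeOfRank (n + 1) (Omega.conormal f)) (hφ : _root_.BlowUp.IsBlowUp φ f.ker)
    (hsq : IsPullback f₁ ψ φ f) :
    ∃ S : PBFree17.Setup ψ n, ∀ i : ℕ, Nonempty (S.tw (i : ℤ) ≅ CohB1.tensorPow (Omega.conormal f₁) i) := by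
  haveI := hf.1
  haveI : IsClosedImmersion f₁ := MorphismProperty.of_isPullback hsq.flip hf.1
  haveI : IsProper φ := GrothLib.BlowUpProper.isProper_of_isBlowUp hφ
  have hp : IsProper ψ := by
    haveI : IsProper (ψ ≫ f) := by rw [← hsq.w]; infer_instance
    exact IsProper.of_comp ψ f
  obtain ⟨hk, hI, hO⟩ := isInvertible_idealMod_ker hf hφ hsq
  obtain ⟨Oinv, hi, hcls⟩ := GrothLib.VA.exists_inverse hO
  have hcls' : Cube.clsMod hi * Cube.clsMod hO = 1 := by rw [hcls, inv_mul_cancel]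
  refine ⟨⟨PBFree17.twPow (Omega.conormal f₁) Oinv, PBFree17.isInvertible_twPow hO hi, fun a b => ?_, ?_, hp,
    fun z => ?_⟩, PBFree17.nonempty_twPow_natCast _ Oinv⟩
  · rw [← Cube.clsMod_eq_iff (Ample.isInvertible_tensorMod (PBFree17.isInvertible_twPow hO hi a)
        (PBFree17.isInvertible_twPow hO hi b)) (PBFree17.isInvertible_twPow hO hi (a + b)),
      Cube.clsMod_tensorMod (PBFree17.isInvertible_twPow hO hi a) (PBFree17.isInvertible_twPow hO hi b),
      PBFree17.clsMod_twPow hO hi hcls', PBFree17.clsMod_twPow hO hi hcls', PBFree17.clsMod_twPow hO hi hcls', zpow_add]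
  · rw [← Cube.clsMod_eq_one_iff (PBFree17.isInvertible_twPow hO hi 0), PBFree17.clsMod_twPow hO hi hcls', zpow_zero]
  obtain ⟨U, hzU, a, ha, hreg⟩ := exists_ctr_chart hf hC z
  have hV : IsAffineOpen (f ⁻¹ᵁ U.1) := U.2.preimage f
  let k : Type u := Γ(X, f ⁻¹ᵁ U.1)
  let π : Γ(Y, U.1) →+* k := (f.app U.1).hom
  have hπ : Function.Surjective π := f.app_surjective U.1 U.2
  have hker : RingHom.ker π = ctr a := by rw [ha, Scheme.Hom.ker_apply]
  let iX : Spec (CommRingCat.of Γ(Y, U.1)) ⟶ Y := U.2.fromSpec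
  let iY : Spec (CommRingCat.of k) ⟶ X := hV.fromSpec
  have hsqY : Spec.map (CommRingCat.ofHom π) ≫ iX = iY ≫ f := by
    have := IsAffineOpen.SpecMap_appLE_fromSpec f U.2 hV le_rfl
    rw [Scheme.Hom.appLE_eq_app] at this
    exact this
  haveI : IsClosedImmersion (Spec.map (CommRingCat.ofHom π)) := IsClosedImmersion.spec_of_surjective _ hπ
  have hpbY : IsPullback (Spec.map (CommRingCat.ofHom π)) iY iX f :=
    IsOpenImmersion.isPullback _ _ _ _ hsqY.symm
      (by rw [IsAffineOpen.opensRange_fromSpec, IsAffineOpen.opensRange_fromSpec])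
  have hI' : f.ker.comap iX = GrothLib.BlowUp.idealSheaf (ctr a) := by
    rw [GrothLib.Nagata6.comap_fromSpec, ha]
  have hkπ : (Spec.map (CommRingCat.ofHom π)).ker = GrothLib.BlowUp.idealSheaf (ctr a) := by
    rw [← hI', ← Scheme.IdealSheafData.ker_fst_of_isClosedImmersion, ← hpbY.isoPullback_hom_fst,
      Scheme.Hom.ker_comp_of_isIso]
  have hb' := GrothLib.BlowUp.isBlowUp_flat_baseChange iX hφ
  rw [hI'] at hb'
  obtain ⟨e, he, ⟨t⟩⟩ := GrothLib.ExcP1.exists_iso_projSpace a hb' π hπ hker hreg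
  let j := pullback.snd iX φ
  let b' := pullback.fst iX φ
  let E' := GrothLib.ExcP1.exc a b'
  let ι' : CohB1.ProjSpace n k ⟶ pullback iX φ := e.hom ≫ E'.subschemeι
  haveI : IsClosedImmersion ι' := inferInstanceAs (IsClosedImmersion (_ ≫ _))
  have hk' : ι'.ker = E' := by
    show (e.hom ≫ E'.subschemeι).ker = _
    rw [Scheme.Hom.ker_comp_of_isIso, Scheme.IdealSheafData.ker_subschemeι]
  have hw : ι' ≫ b' = CohB1.ProjSpace.toSpec n k ≫ Spec.map (CommRingCat.ofHom π) := by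
    rw [Category.assoc]; exact he
  have hpb1 : IsPullback ι' (CohB1.ProjSpace.toSpec n k) b' (Spec.map (CommRingCat.ofHom π)) :=
    isPullback_of_isClosedImmersion ι' (Spec.map (CommRingCat.ofHom π)) _ b' hw (by rw [hk', hkπ])
  have hpb2 : IsPullback (ι' ≫ j) (CohB1.ProjSpace.toSpec n k) φ (Spec.map (CommRingCat.ofHom π) ≫ iX) :=
    hpb1.paste_horiz (IsPullback.of_hasPullback iX φ).flip
  rw [hsqY] at hpb2
  have hw2 : (ι' ≫ j) ≫ φ = (CohB1.ProjSpace.toSpec n k ≫ iY) ≫ f := by rw [hpb2.w, Category.assoc]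
  let σ₀ : CohB1.ProjSpace n k ⟶ X₁ := hsq.lift (ι' ≫ j) (CohB1.ProjSpace.toSpec n k ≫ iY) hw2
  have hσ1 : σ₀ ≫ f₁ = ι' ≫ j := hsq.lift_fst _ _ _
  have hσ2 : σ₀ ≫ ψ = CohB1.ProjSpace.toSpec n k ≫ iY := hsq.lift_snd _ _ _
  have hpb3 : IsPullback σ₀ (CohB1.ProjSpace.toSpec n k) ψ iY :=
    (IsPullback.of_bot (hσ1.symm ▸ hpb2.flip) hσ2.symm hsq.flip).flip
  obtain ⟨ω', hω'1, hω'2⟩ := ProjPic26.exists_isPullback_point (n := n) (Spec (CommRingCat.of k))
    (𝟙 (Spec (CommRingCat.of k)))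
  haveI : IsIso ω' := hω'2.isIso_fst_of_isIso
  have hw' : ω' ≫ KRR.pr n (Spec (CommRingCat.of k)) = CohB1.ProjSpace.toSpec n k :=
    hω'2.w.trans (Category.comp_id _)
  have hker' : ι'.ker = f₁.ker.comap j := by
    rw [hk', hk]
    show (GrothLib.BlowUp.idealSheaf (ctr a)).comap _ = (f.ker.comap φ).comap j
    rw [← hI', ← Scheme.IdealSheafData.comap_comp, ← Scheme.IdealSheafData.comap_comp, pullback.condition]
  have hJ : PicF.IsInvertible (ClSub.idealMod ι'.ker) := by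
    rw [hk']; exact GrothLib.IdealModSec.isInvertible_of_isEffCartier hb'.1
  obtain ⟨β⟩ := GrothLib.HodgeIndex.nonempty_pullback_idealMod f₁ ι' σ₀ j hσ1.symm hker' hI hJ
  have τ : (Scheme.Modules.pullback σ₀).obj (Omega.conormal f₁) ≅ Twist.twistProjSpace n k 1 :=
    (Scheme.Modules.pullbackComp σ₀ f₁).app (ClSub.idealMod f₁.ker) ≪≫
      (Scheme.Modules.pullbackCongr hσ1).app (ClSub.idealMod f₁.ker) ≪≫
      ((Scheme.Modules.pullbackComp ι' j).app (ClSub.idealMod f₁.ker)).symm ≪≫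
      (Scheme.Modules.pullback ι').mapIso β ≪≫ eqToIso (by rw [hk']) ≪≫ t
  refine ⟨⟨f ⁻¹ᵁ U.1, hV, inv ω' ≫ σ₀, ?_, fun d => ?_⟩, hzU⟩
  · refine hpb3.of_iso (asIso ω') (Iso.refl _) (Iso.refl _) (Iso.refl _) ?_ ?_ ?_ ?_
    · simp
    · simpa using hw'.symm
    · simp
    · simp [iY]
  · refine (Cube.clsMod_eq_iff (Ample.isInvertible_pullback _ (PBFree17.isInvertible_twPow hO hi d))
      (ProjPic26.isInvertible_twistOver n _ d)).1 ?_
    rw [Cube.clsMod_pullback _ (PBFree17.isInvertible_twPow hO hi d), PBFree17.clsMod_twPow hO hi hcls', map_zpow,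
      ← Cube.pull_comp, ← Cube.clsMod_pullback σ₀ hO,
      (Cube.clsMod_eq_iff (Ample.isInvertible_pullback σ₀ hO)
        (ProjPic26.isInvertible_twistProjSpace n k 1)).2 ⟨τ⟩]
    obtain ⟨χ⟩ := ProjCohom.nonempty_pullback_twistOver n (Spec (CommRingCat.of k)) d hω'1
    have hχ := (Cube.clsMod_eq_iff (Ample.isInvertible_pullback ω' (ProjPic26.isInvertible_twistOver n _ d))
      (ProjPic26.isInvertible_twistProjSpace n k d)).2 ⟨χ⟩
    rw [Cube.clsMod_pullback ω' (ProjPic26.isInvertible_twistOver n _ d)] at hχ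
    rw [← map_zpow]
    refine (congrArg (Cube.pull (inv ω')) (ProjPic26.tw_eq_zpow n k d).symm).trans ?_
    refine (congrArg (Cube.pull (inv ω')) hχ.symm).trans ?_
    rw [Cube.pull_comp, IsIso.inv_hom_id, Cube.pull_id]

end GrothLib.BlowK17
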