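import Groth.Agent.Lib.PushKR17.Push
import Groth.Agent.Lib.K0Sub.Regular
import Groth.Agent.Lib.K0Sub.Localization
import Groth.Agent.Lib.FinCov.Frame
import Groth.Agent.Lib.Torus17.AffSpace

/-!
# Classes of coherent modules which are locally free off a closed subset with regular local rings
-/

set_option autoImplicit false
set_option linter.all false
set_option backward.isDefEq.respectTransparency false

universe v u

open CategoryTheory CategoryTheory.Limits AlgebraicGeometry TopologicalSpace Opposite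

noncomputable section

namespace GrothLib.BlowK17

open GrothLib.K0Sub
open GrothLib.PushKR17 (HasR)

variable {X U : Scheme.{u}} (j : U ⟶ X) [IsOpenImmersion j]

/-- Coherent modules locally free on `U`. -/
def Good (M : X.Modules) : Prop := Coh.IsCoh M ∧ FlatMod.IsFinLocFree ((res j).obj M)

/-- The local rings outside `U` are regular. -/
def RegOff : Prop := ∀ x : X, x ∉ Set.range j → IsRegularLocalRing (X.presheaf.stalk x)

variable {j}

theorem free_stalk_of_res {M : X.Modules} (h : FlatMod.IsFinLocFree ((res j).obj M)) (y : U) :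
    Module.Free (X.presheaf.stalk (j y)) (M.presheaf.stalk (j y)) := by
  obtain ⟨V, n, hy, ⟨e⟩⟩ := h y
  let jj := V.ι ≫ j
  have hjj : jj.isoOpensRange.inv ≫ jj = jj.opensRange.ι := by
    rw [Iso.inv_comp_eq, Scheme.Hom.isoOpensRange_hom_ι]
  obtain ⟨b, hb⟩ := FinCov.exists_frame_of_iso (U := jj.opensRange)
    (((Scheme.Modules.restrictFunctorCongr hjj.symm ≪≫
      Scheme.Modules.restrictFunctorComp jj.isoOpensRange.inv jj).app _) ≪≫
      (Scheme.Modules.restrictFunctor jj.isoOpensRange.inv).mapIso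
        ((Scheme.Modules.restrictFunctorComp V.ι j).app _ ≪≫ e) ≪≫ DCoh.restrictFreeModIso _ n)
  obtain ⟨B⟩ := Euler.stalk_basis_of_frame hb (x := j y) (by
    rw [Scheme.Opens.ι_image_top]; exact ⟨⟨y, hy⟩, rfl⟩)
  exact Module.Free.of_basis B

variable [IsNoetherian X] (hE : KRR.HasEnoughLocFree X) (hreg : RegOff j)

include hE hreg in
theorem exists_hasR_good {M : X.Modules} (hM : Good j M) : ∃ c, HasR M c := by
  classical
  have hd : ∀ y : X, ∃ d : ℕ, HasProjectiveDimensionLT ((OX.stalk y).obj M) (d + 1) := fun y => by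
    by_cases hy : y ∈ Set.range j
    · obtain ⟨w, rfl⟩ := hy
      haveI := hM.1.1
      haveI := free_stalk_of_res hM.2 w
      exact ⟨0, Serre.pdLE_zero_iff.2
        (inferInstance : Module.Projective (X.presheaf.stalk (j w)) (M.presheaf.stalk (j w)))⟩
    · haveI := hreg y hy
      exact ⟨(IsLocalRing.maximalIdeal (X.presheaf.stalk y)).spanFinrank,
        Serre.pdLE_of_isRegularLocalRing (X.presheaf.stalk y) _
          (IsRegularLocalRing.spanFinrank_maximalIdeal (R := X.presheaf.stalk y)).symm ((OX.stalk y).obj M)⟩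
  choose d hd using hd
  choose W hyW hW using fun y => exists_pd_nhd hE (d y) M hM.1 y (hd y)
  obtain ⟨t, ht⟩ := isCompact_univ.elim_finite_subcover (fun y : X => (W y : Set X))
    (fun y => (W y).2) fun y _ => Set.mem_iUnion.2 ⟨y, hyW y⟩
  obtain ⟨c, hc⟩ := exists_R_of_pd hE (t.sup d) M hM.1 fun z => by
    obtain ⟨y, hy, hzy⟩ := Set.mem_iUnion₂.1 (ht (Set.mem_univ z))
    exact Serre.pdLE_mono (Finset.le_sup hy) (hW y z hzy)
  exact ⟨c, _, hc⟩

open Classical in
/-- The class of a module with a resolution. -/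
def cls (M : X.Modules) : SGA6.Kvb X := if h : ∃ c, HasR M c then h.choose else 0

include hE in
theorem cls_eq {M : X.Modules} {c : SGA6.Kvb X} (h : HasR M c) : cls M = c := by
  classical
  have h' : ∃ c, HasR M c := ⟨c, h⟩
  rw [cls, dif_pos h']
  exact HasR.unique hE h'.choose_spec h

include hE hreg in
theorem hasR_cls {M : X.Modules} (hM : Good j M) : HasR M (cls M) := by
  obtain ⟨c, hc⟩ := exists_hasR_good hE hreg hM
  rw [cls_eq hE hc]
  exact hc

include hE hreg in
theorem cls_add {S : ShortComplex X.Modules} (hS : S.ShortExact) (h₁ : Good j S.X₁) (h₃ : Good j S.X₃) :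
    cls S.X₂ = cls S.X₁ + cls S.X₃ :=
  cls_eq hE (HasR.add hE hS (hasR_cls hE hreg h₁) (hasR_cls hE hreg h₃))

variable {Z : Scheme.{u}} {i : Z ⟶ X}

omit [AlgebraicGeometry.IsNoetherian X] in
theorem good_of_isZero_res {M : X.Modules} (hM : Coh.IsCoh M) (h : IsZero ((res j).obj M)) : Good j M :=
  ⟨hM, DCoh.isFinLocFree_of_isZero h⟩

theorem isZero_res_of_suppP (hU : Set.range j = (Set.range i)ᶜ) [IsClosedImmersion i] {M : X.Modules} (hM : suppP i M) :
    IsZero ((res j).obj M) := by
  obtain ⟨hc, hs⟩ := (suppP_iff i).1 hM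
  refine (IsZero.iff_id_eq_zero _).2 (Scheme.Modules.hom_ext _ _ fun V => ?_)
  haveI : Subsingleton Γ(M, j ''ᵁ V) := by
    refine subsingleton_of_forall_eq 0 fun m => ?_
    refine TopCat.Presheaf.section_ext ((SheafOfModules.toSheaf _).obj M) _ m 0 fun x hx => ?_
    haveI : Subsingleton (M.presheaf.stalk x) := by
      by_contra hn
      obtain ⟨y, -, rfl⟩ := hx
      exact (hU ▸ (⟨y, rfl⟩ : j y ∈ Set.range j) : j y ∈ (Set.range i)ᶜ)
        (hs (show j y ∈ CohB1.support M from hn))
    exact Subsingleton.elim (α := M.presheaf.stalk x) _ _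
  exact AddCommGrpCat.ext fun m => Subsingleton.elim (α := Γ(M, j ''ᵁ V)) _ _

variable [IsClosedImmersion i] (hU : Set.range j = (Set.range i)ᶜ)

include hE hreg hU in
/-- Direct images from the closed complement, on classes. -/
theorem exists_pushT : ∃ T : KZero.K0sub (cohP Z) →+ SGA6.Kvb X,
    (∀ N : Z.Modules, Coh.IsCoh N → T (KZero.clSub (cohP Z) N) = cls ((Scheme.Modules.pushforward i).obj N)) ∧
    ∀ M : X.Modules, suppP i M → cls M ∈ T.range := by
  obtain ⟨_, hpl, hpc⟩ := K0Sub.pushforward_exact i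
  haveI := hpl
  haveI := hpc
  have hgood : ∀ N : Z.Modules, Coh.IsCoh N → Good j ((Scheme.Modules.pushforward i).obj N) := fun N hN =>
    good_of_isZero_res (isCoh_push i hN) (isZero_res_push j i hU N)
  obtain ⟨T, hT⟩ := exists_lift (P := cohP Z) (fun N => cls ((Scheme.Modules.pushforward i).obj N))
    fun S hS h₁ h₂ h₃ => cls_add hE hreg (hS.map_of_exact (Scheme.Modules.pushforward i)) (hgood _ h₁) (hgood _ h₃)
  obtain ⟨L, hL⟩ := exists_lift (P := suppP i) (fun M : X.Modules => cls M)
    fun S hS h₁ h₂ h₃ => cls_add hE hreg hS (good_of_isZero_res h₁.1 (isZero_res_of_suppP hU h₁))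
      (good_of_isZero_res h₃.1 (isZero_res_of_suppP hU h₃))
  refine ⟨T, hT, fun M hM => ?_⟩
  obtain ⟨a, ha⟩ := (bijective_mapSub_killed_supp i).2 (KZero.clSub (suppP i) M)
  obtain ⟨b, hb⟩ := (bijective_mapSub_push i fun N hN => isCoh_push i hN).2 a
  refine ⟨b, ?_⟩
  have e : T = L.comp ((SGA6.mapSub (𝟭 X.Modules) (killedP i) (suppP i) fun _ h => killedP.supp i h).comp
      (SGA6.mapSub (Scheme.Modules.pushforward i) (cohP Z) (killedP i)
        fun N hN => ⟨isCoh_push i hN, killedByIdeal_push i N⟩)) := hom_ext fun N hN => by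
    have hk : killedP i ((Scheme.Modules.pushforward i).obj N) :=
      ⟨isCoh_push i hN, killedByIdeal_push i N⟩
    rw [AddMonoidHom.comp_apply, AddMonoidHom.comp_apply, mapSub_clSub _ _ _ hN, mapSub_clSub _ _ _ hk, hT N hN]
    exact (hL _ (killedP.supp i hk)).symm
  rw [e, AddMonoidHom.comp_apply, AddMonoidHom.comp_apply, hb, ha]
  exact hL _ hM

variable {T : KZero.K0sub (cohP Z) →+ SGA6.Kvb X} (hT : ∀ M : X.Modules, suppP i M → cls M ∈ T.range)

include hE hreg hU hT in
theorem cls_sub_mem_of_isIso_res {A B : X.Modules} (f : A ⟶ B) (hA : Good j A) (hB : Good j B)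
    [PreservesFiniteLimits (res j)] [PreservesFiniteColimits (res j)] [IsIso ((res j).map f)] :
    cls A - cls B ∈ T.range := by
  have hK := QCoh.isCoh_kernel f hA.1 hB.1
  have hC := QCoh.isCoh_cokernel f hA.1 hB.1
  have hI : Coh.IsCoh (Abelian.image f) := QCoh.isCoh_kernel _ hB.1 hC
  obtain ⟨w, hS⟩ := QCoh.shortExact_kernel_image f
  have h1 : IsZero ((res j).obj (kernel f)) :=
    (isZero_kernel_of_mono ((res j).map f)).of_iso (PreservesKernel.iso (res j) f)
  have h2 : IsZero ((res j).obj (cokernel f)) :=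
    (isZero_cokernel_of_epi ((res j).map f)).of_iso (PreservesCokernel.iso (res j) f)
  have hIg : Good j (Abelian.image f) := ⟨hI, by
    exact DCoh.isFinLocFree_of_iso (@asIso _ _ _ _ _ ((hS.map_of_exact (res j)).isIso_g_iff.2 h1)) hA.2⟩
  have e1 := cls_add hE hreg hS (good_of_isZero_res hK h1) hIg
  have e2 := cls_add hE hreg (QCoh.shortExact_image_cokernel f) hIg (good_of_isZero_res hC h2)
  have m1 := hT _ (suppP_of_res_isZero j i hU hK h1)
  have m2 := hT _ (suppP_of_res_isZero j i hU hC h2)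
  dsimp only at e1 e2
  rw [e1, e2, show ∀ a b c : SGA6.Kvb X, (a + b) - (b + c) = a - c from fun _ _ _ => by abel]
  exact AddSubgroup.sub_mem _ m1 m2

include hE hreg hU hT in
theorem cls_sub_mem_of_iso {A B : X.Modules} (hA : Good j A) (hB : Good j B)
    [PreservesFiniteLimits (res j)] [PreservesFiniteColimits (res j)] {G : U.Modules} [G.IsQuasicoherent]
    (a : (res j).obj A ≅ G) (b : (res j).obj B ≅ G) : cls A - cls B ∈ T.range := by
  haveI := hA.1.1
  haveI := hB.1.1
  haveI := isQuasicoherent_push_open j G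
  haveI := (QCoh.isCoh_biprod' hA.1 hB.1).1
  haveI : (kernel (biprod.desc (adjunct j a.hom) (-(adjunct j b.hom)))).IsQuasicoherent :=
    QCoh.isQuasicoherent_kernel _
  let P := pullback (adjunct j a.hom) (adjunct j b.hom)
  let eP : kernel (biprod.desc (adjunct j a.hom) (-(adjunct j b.hom))) ≅ P :=
    ((Abelian.PullbackToBiproductIsKernel.isLimitPullbackToBiproduct (adjunct j a.hom)
      (adjunct j b.hom)).conePointUniqueUpToIso (kernelIsKernel _)).symm
  have hP : Coh.IsCoh P := QCoh.isCoh_of_iso eP ⟨inferInstance,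
    QCoh.isFiniteType_of_mono (kernel.ι _) (QCoh.isCoh_biprod' hA.1 hB.1).2⟩
  haveI := isIso_map_adjunct j a.hom
  haveI := isIso_map_adjunct j b.hom
  have H := (IsPullback.of_hasPullback (adjunct j a.hom) (adjunct j b.hom)).map (res j)
  haveI : IsIso ((res j).map (pullback.fst (adjunct j a.hom) (adjunct j b.hom))) := H.isIso_fst_of_isIso
  haveI : IsIso ((res j).map (pullback.snd (adjunct j a.hom) (adjunct j b.hom))) := H.isIso_snd_of_isIso
  have hPg : Good j P := ⟨hP, DCoh.isFinLocFree_of_iso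
    (asIso ((res j).map (pullback.fst (adjunct j a.hom) (adjunct j b.hom)))).symm hA.2⟩
  have m1 := cls_sub_mem_of_isIso_res hE hreg hU hT (pullback.fst (adjunct j a.hom) (adjunct j b.hom)) hPg hA
  have m2 := cls_sub_mem_of_isIso_res hE hreg hU hT (pullback.snd (adjunct j a.hom) (adjunct j b.hom)) hPg hB
  have := AddSubgroup.sub_mem _ m2 m1
  rwa [sub_sub_sub_cancel_left] at this

omit [AlgebraicGeometry.IsNoetherian X] in
theorem res_instances (j : U ⟶ X) [IsOpenImmersion j] :
    PreservesFiniteLimits (res j) ∧ PreservesFiniteColimits (res j) ∧ (res j).Additive :=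
  ⟨preservesFiniteLimits_of_natIso (Scheme.Modules.restrictFunctorIsoPullback j).symm,
    preservesFiniteColimits_of_natIso (Scheme.Modules.restrictFunctorIsoPullback j).symm,
    Functor.additive_of_iso (Scheme.Modules.restrictFunctorIsoPullback j).symm⟩

/-- Classes of bundles on the total space come from the base and the closed complement. -/
theorem range_sup_eq_top {Y : Scheme.{u}} [IsNoetherian Y] (φ : X ⟶ Y) (j₀ : U ⟶ Y) [IsOpenImmersion j₀]
    (hj : j ≫ φ = j₀) (hE : KRR.HasEnoughLocFree X) (hreg : RegOff j) (hU : Set.range j = (Set.range i)ᶜ)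
    (hEY : KRR.HasEnoughLocFree Y) (hregY : RegOff j₀) {θ : SGA6.Kvb Y →+ SGA6.Kvb X}
    (hθ : ∀ E : Y.Modules, FlatMod.IsFinLocFree E → θ (KRR.cl Y E) = KRR.cl X ((Scheme.Modules.pullback φ).obj E))
    {T : KZero.K0sub (cohP Z) →+ SGA6.Kvb X} (hT : ∀ M : X.Modules, suppP i M → cls M ∈ T.range) :
    θ.range ⊔ T.range = ⊤ := by
  obtain ⟨h1, h2, h3⟩ := res_instances j
  haveI := h1; haveI := h2; haveI := h3
  obtain ⟨h1', h2', h3'⟩ := res_instances j₀
  haveI := h1'; haveI := h2'; haveI := h3'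
  haveI : IsLocallyNoetherian U := isLocallyNoetherian_of_isOpenImmersion j
  let τ : Scheme.Modules.pullback φ ⋙ res j ≅ res j₀ :=
    Functor.isoWhiskerLeft _ (Scheme.Modules.restrictFunctorIsoPullback j) ≪≫
      Scheme.Modules.pullbackComp j φ ≪≫ Scheme.Modules.pullbackCongr hj ≪≫
      (Scheme.Modules.restrictFunctorIsoPullback j₀).symm
  have hgood : ∀ G : Y.Modules, Good j₀ G → Good j ((Scheme.Modules.pullback φ).obj G) := fun G hG =>
    ⟨ModDesc.isCoh_pullback φ G hG.1, DCoh.isFinLocFree_of_iso (τ.app G).symm hG.2⟩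
  have main : ∀ (k : ℕ) (G : Y.Modules) (c : SGA6.Kvb Y), R (KRR.vbP Y) (cohP Y) k G c → Good j₀ G →
      θ c - cls ((Scheme.Modules.pullback φ).obj G) ∈ T.range := by
    intro k
    induction k with
    | zero =>
      intro G c hR hG
      have hvb := OX.isFinLocFree_pullback φ hR.1
      rw [hR.2, show θ (KZero.clSub (KRR.vbP Y) G) = _ from hθ G hR.1, cls_eq hE (HasR.of_vb hvb), sub_self]
      exact zero_mem _
    | succ k ih =>
      intro G c hR hG
      obtain ⟨hM, S, c', hS, rfl, hL, hK, rfl⟩ := hR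
      have hS₁ : Coh.IsCoh S.X₁ := isCoh_ker S hS (Euler.isCoh_of_isFinLocFree hL) hM
      have hS2 := hS.map_of_exact (res j₀)
      have hK₁ : Good j₀ S.X₁ := ⟨hS₁, isFinLocFree_ker _ hS2 (OX.isFinLocFree_restrict j₀ hL) hG.2⟩
      have hi := ih S.X₁ c' hK hK₁
      let F := Scheme.Modules.pullback φ
      haveI := hS.epi_g
      let g := F.map S.g
      haveI : Epi g := inferInstanceAs (Epi (F.map S.g))
      have hker := shortExact_kernel g
      have hLv := OX.isFinLocFree_pullback φ hL
      have hkerG : Good j (kernel g) := ⟨QCoh.isCoh_kernel g (Euler.isCoh_of_isFinLocFree hLv) (hgood _ hG).1,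
        isFinLocFree_ker _ (hker.map_of_exact (res j)) (OX.isFinLocFree_restrict j hLv) (hgood _ hG).2⟩
      let u : F.obj S.X₁ ⟶ kernel g := kernel.lift g (F.map S.f) (by rw [← F.map_comp, S.zero, F.map_zero])
      have h3 : (S.map (F ⋙ res j)).ShortExact :=
        (ShortComplex.shortExact_iff_of_iso (S.mapNatIso τ)).2 hS2
      have h4 := hker.map_of_exact (res j)
      haveI : IsIso ((res j).map u) := by
        have hu : (res j).map u ≫ (res j).map (kernel.ι g) = (res j).map (F.map S.f) := by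
          rw [← Functor.map_comp, kernel.lift_ι]
        haveI := h4.mono_f
        haveI : Mono ((res j).map (kernel.ι g)) := h4.mono_f
        have e : (res j).map u = (IsLimit.conePointUniqueUpToIso h3.fIsKernel h4.fIsKernel).hom := by
          rw [← cancel_mono ((res j).map (kernel.ι g)), hu]
          exact (IsLimit.conePointUniqueUpToIso_hom_comp h3.fIsKernel h4.fIsKernel WalkingParallelPair.zero).symm
        rw [e]
        infer_instance
      have m := cls_sub_mem_of_isIso_res hE hreg hU hT u (hgood _ hK₁) hkerG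
      have e1 := cls_add hE hreg hker hkerG (hgood _ hG)
      dsimp only at e1
      rw [cls_eq hE (HasR.of_vb hLv)] at e1
      rw [map_sub, show θ (KZero.clSub (KRR.vbP Y) S.X₂) = _ from hθ _ hL, e1]
      have hmem := AddSubgroup.neg_mem _ (AddSubgroup.add_mem _ hi m)
      convert hmem using 1
      abel
  have hcl : ∀ F : X.Modules, FlatMod.IsFinLocFree F → KRR.cl X F ∈ θ.range ⊔ T.range := fun F hF => by
    have hF' := OX.isFinLocFree_restrict j hF
    obtain ⟨G, hG, ⟨eG⟩⟩ := exists_extension j₀ _ (Euler.isCoh_of_isFinLocFree hF')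
    have hGg : Good j₀ G := ⟨hG, DCoh.isFinLocFree_of_iso eG.symm hF'⟩
    obtain ⟨c, ⟨k, hk⟩⟩ := exists_hasR_good hEY hregY hGg
    have m1 := main k G c hk hGg
    haveI := (Euler.isCoh_of_isFinLocFree hF').1
    have m2 := cls_sub_mem_of_iso hE hreg hU hT (hgood _ hGg) ⟨Euler.isCoh_of_isFinLocFree hF, hF'⟩
      (τ.app G ≪≫ eG) (Iso.refl _)
    rw [cls_eq hE (HasR.of_vb hF)] at m2
    have : KRR.cl X F = θ c - ((θ c - cls ((Scheme.Modules.pullback φ).obj G)) +
        (cls ((Scheme.Modules.pullback φ).obj G) - KRR.cl X F)) := by abel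
    rw [this]
    exact AddSubgroup.sub_mem _ (AddSubgroup.mem_sup_left ⟨c, rfl⟩)
      (AddSubgroup.mem_sup_right (AddSubgroup.add_mem _ m1 m2))
  rw [eq_top_iff]
  intro x _
  have h0 : QuotientAddGroup.mk' (θ.range ⊔ T.range) = 0 :=
    K0Sub.hom_ext (P := KRR.vbP X) fun F hF => (QuotientAddGroup.eq_zero_iff _).2 (hcl F hF)
  exact (QuotientAddGroup.eq_zero_iff x).1 (DFunLike.congr_fun h0 x)

end GrothLib.BlowK17
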