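import Groth.Agent.Lib.BlowK17.ExcSetup
import Groth.Agent.Lib.ExtPowX.Pullback
import Groth.Agent.Lib.OX.OneDegLocus

/-!
# Independence of the powers of the conormal class over `K` of the centre; the class `λ₋₁(ψ*c - ℓ)`
-/

set_option autoImplicit false
set_option linter.all false
set_option backward.isDefEq.respectTransparency false

universe v u

open AlgebraicGeometry CategoryTheory CategoryTheory.Limits TopologicalSpace Opposite Finset

noncomputable section

namespace GrothLib.BlowK17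

variable {T P : Scheme.{u}} {π : P ⟶ T} {m : ℕ}

/-- The classes `g(a) · ℓ^i`, `i ≤ m`, are independent. -/
theorem bijective_pow [CompactSpace T] (S : PBFree17.Setup π m) {O1 : P.Modules} (hO : PicF.IsInvertible O1)
    (hpos : ∀ i : ℕ, Nonempty (S.tw (i : ℤ) ≅ CohB1.tensorPow O1 i))
    {KX KP : Type v} [CommRing KX] [LambdaRing.LambdaOps KX] [CommRing KP] [LambdaRing.LambdaOps KP]
    {PX : LambdaRing.PosStructure KX} {PP : LambdaRing.PosStructure KP}
    {φX : SGA6.Kvb T →+ KX} {φP : SGA6.Kvb P →+ KP} (hKX : KRR.IsModel T KX PX φX) (hKP : KRR.IsModel P KP PP φP)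
    (g : KX →+ KP) (hg : KRR.IsPull π φX φP g) :
    Function.Bijective (fun a : Fin (m + 1) → KX => ∑ i : Fin (m + 1), g (a i) * φP (KRR.cl P O1) ^ (i : ℕ)) := by
  obtain ⟨o⟩ := S.nonempty_ops
  have hO' := GrothLib.Euler.isFinLocFree_of_isInvertible hO
  have hpow : ∀ i : ℕ, φP (KRR.cl P (CohB1.tensorPow O1 i)) = φP (KRR.cl P O1) ^ i := fun i => by
    induction i with
    | zero => rw [pow_zero]; exact hKP.map_one
    | succ i ih =>
      rw [pow_succ, ← ih, hKP.map_mul _ _
        (GrothLib.Euler.isFinLocFree_of_isInvertible (GrothLib.Ample.isInvertible_tensorPow hO i)) hO']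
      rfl
  have key : ∀ (i : ℕ) (x : SGA6.Kvb T), φP (o.τ (i : ℤ) (o.q x)) = g (φX x) * φP (KRR.cl P O1) ^ i := fun i x => by
    refine DFunLike.congr_fun (GrothLib.K0Sub.hom_ext (P := KRR.vbP T) (f := φP.comp ((o.τ (i : ℤ)).comp o.q))
      (g := (AddMonoidHom.mulRight (φP (KRR.cl P O1) ^ i)).comp (g.comp φX)) fun N hN => ?_) x
    show φP (o.τ (i : ℤ) (o.q (KRR.cl T N))) = g (φX (KRR.cl T N)) * φP (KRR.cl P O1) ^ i
    have hN' := GrothLib.OX.isFinLocFree_pullback π hN
    rw [o.hq N hN, o.hτ _ _ hN', hg N hN, ← hpow i, mul_comm, hKP.map_mul _ _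
      (GrothLib.Euler.isFinLocFree_of_isInvertible (GrothLib.Ample.isInvertible_tensorPow hO i)) hN']
    exact congrArg φP (GrothLib.PBFree17.cl_iso (((DCoh.tensorBi (X := P)).mapIso (hpos i).some).app _)
      (S.isFinLocFree_tF hN' _))
  let e := Equiv.ofBijective φX hKX.bijective
  have hτ : Function.Bijective (o.τ (m : ℤ)) := by
    refine Function.bijective_iff_has_inverse.2 ⟨o.τ (-(m : ℤ)), fun x => ?_, fun x => ?_⟩
    · rw [o.τ_τ, neg_add_cancel, o.τ_zero]
    · rw [o.τ_τ, add_neg_cancel, o.τ_zero]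
  have hall := hKP.bijective.comp (hτ.comp (o.bijective.comp
    ((Equiv.piCongrLeft' (fun _ : Fin (m + 1) => SGA6.Kvb T) Fin.revPerm).bijective.comp
      (Equiv.piCongrRight (fun _ : Fin (m + 1) => e.symm)).bijective)))
  refine (congrArg Function.Bijective (funext fun a => ?_)).mp hall
  show φP (o.τ (m : ℤ) (∑ i : Fin (m + 1), o.τ (-((i : ℕ) : ℤ)) (o.q (e.symm (a (Fin.rev i)))))) = _
  rw [map_sum, map_sum, ← Equiv.sum_comp Fin.revPerm]
  refine Finset.sum_congr rfl fun i _ => ?_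
  rw [o.τ_τ, show (m : ℤ) + -((Fin.revPerm i : Fin (m + 1)) : ℕ) = ((i : ℕ) : ℤ) by
    rw [Fin.revPerm_apply, Fin.val_rev]; have := i.is_lt; omega, key, Fin.revPerm_apply, Fin.rev_rev]
  exact congrArg (fun y => g y * _) (e.apply_symm_apply (a i))

section Model

variable {KX KP : Type v} [CommRing KX] [LambdaRing.LambdaOps KX] [CommRing KP] [LambdaRing.LambdaOps KP]
    {PX : LambdaRing.PosStructure KX} {PP : LambdaRing.PosStructure KP}
    {φX : SGA6.Kvb T →+ KX} {φP : SGA6.Kvb P →+ KP}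

/-- Pull-back on models is multiplicative. -/
theorem pull_mul (hKX : KRR.IsModel T KX PX φX) (hKP : KRR.IsModel P KP PP φP) {g : KX →+ KP}
    (hg : KRR.IsPull π φX φP g) (a b : KX) : g (a * b) = g a * g b := by
  obtain ⟨x, rfl⟩ := hKX.bijective.2 a
  obtain ⟨y, rfl⟩ := hKX.bijective.2 b
  have h1 : ∀ E : T.Modules, FlatMod.IsFinLocFree E → ∀ F : T.Modules, FlatMod.IsFinLocFree F →
      g (φX (KRR.cl T E) * φX (KRR.cl T F)) = g (φX (KRR.cl T E)) * g (φX (KRR.cl T F)) := fun E hE F hF => by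
    rw [hKX.map_mul E F hE hF, hg _ (GrothLib.OX.isFinLocFree_tensor hE hF), hg E hE, hg F hF,
      hKP.map_mul _ _ (GrothLib.OX.isFinLocFree_pullback π hE) (GrothLib.OX.isFinLocFree_pullback π hF)]
    exact congrArg φP (GrothLib.PBFree17.cl_iso (GrothLib.OX.pullTensorIso π E F)
      (GrothLib.OX.isFinLocFree_pullback π (GrothLib.OX.isFinLocFree_tensor hE hF)))
  have h2 : ∀ E : T.Modules, FlatMod.IsFinLocFree E → g (φX (KRR.cl T E) * φX y) = g (φX (KRR.cl T E)) * g (φX y) :=
    fun E hE => DFunLike.congr_fun (GrothLib.K0Sub.hom_ext (P := KRR.vbP T)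
      (f := g.comp ((AddMonoidHom.mulLeft (φX (KRR.cl T E))).comp φX))
      (g := (AddMonoidHom.mulLeft (g (φX (KRR.cl T E)))).comp (g.comp φX)) fun F hF => h1 E hE F hF) y
  exact DFunLike.congr_fun (GrothLib.K0Sub.hom_ext (P := KRR.vbP T)
    (f := g.comp ((AddMonoidHom.mulRight (φX y)).comp φX))
    (g := (AddMonoidHom.mulRight (g (φX y))).comp (g.comp φX)) fun E hE => h2 E hE) x

theorem pull_one (hKX : KRR.IsModel T KX PX φX) (hKP : KRR.IsModel P KP PP φP) {g : KX →+ KP}
    (hg : KRR.IsPull π φX φP g) : g 1 = 1 := by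
  rw [← hKX.map_one, hg _ (GrothLib.Euler.isFinLocFree_of_isInvertible GrothLib.Euler.isInvertible_structure),
    ← hKP.map_one]
  exact congrArg φP (GrothLib.PBFree17.cl_iso (GrothLib.OX.pullUnitIso π) (GrothLib.OX.isFinLocFree_pullback π
    (GrothLib.Euler.isFinLocFree_of_isInvertible GrothLib.Euler.isInvertible_structure)))

theorem pull_lam (hKX : KRR.IsModel T KX PX φX) (hKP : KRR.IsModel P KP PP φP) {g : KX →+ KP}
    (hg : KRR.IsPull π φX φP g) {E : T.Modules} (hE : FlatMod.IsFinLocFree E) (i : ℕ) :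
    g (LambdaRing.LambdaOps.lam i (φX (KRR.cl T E))) = LambdaRing.LambdaOps.lam i (g (φX (KRR.cl T E))) := by
  have hW := GrothLib.ExtPowX.isExtPow_wedge hE i
  have hWf := GrothLib.ExtPowX.isFinLocFree_wedge hE i
  rw [hKX.map_lam i E _ hE hWf hW, hg _ hWf, hg E hE,
    hKP.map_lam i _ _ (GrothLib.OX.isFinLocFree_pullback π hE) (GrothLib.OX.isFinLocFree_pullback π hWf)
      (GrothLib.ExtPowX.isExtPow_pullback π hE hW)]

/-- `λ^k(g c - ℓ)` in powers of a line element `ℓ`. -/
theorem lam_sub_line {K : Type v} [CommRing K] [LambdaRing.LambdaOps K] (E l : K)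
    (hl : ∀ i, 2 ≤ i → LambdaRing.LambdaOps.lam i l = 0) (k : ℕ) :
    LambdaRing.LambdaOps.lam k (E - l) =
      ∑ j ∈ range (k + 1), (-l) ^ j * LambdaRing.LambdaOps.lam (k - j) E := by
  induction k with
  | zero => simp [LambdaRing.LambdaOps.lam_zero]
  | succ k ih =>
    have h := LambdaRing.LambdaOps.lam_add (k + 1) (E - l) l
    rw [sub_add_cancel, sum_range_succ, sum_range_succ, sum_eq_zero, Nat.sub_self,
      LambdaRing.LambdaOps.lam_zero, mul_one, show k + 1 - k = 1 by omega, LambdaRing.LambdaOps.lam_one,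
      zero_add] at h
    · rw [sum_range_succ', pow_zero, one_mul, Nat.sub_zero, h]
      have : ∑ j ∈ range (k + 1), (-l) ^ (j + 1) * LambdaRing.LambdaOps.lam (k + 1 - (j + 1)) E =
          -(LambdaRing.LambdaOps.lam k (E - l) * l) := by
        rw [ih, Finset.sum_mul, ← Finset.sum_neg_distrib]
        refine sum_congr rfl fun j _ => ?_
        rw [Nat.add_sub_add_right, pow_succ]
        ring
      rw [this]
      ring
    · intro i hi
      rw [hl _ (by have := mem_range.1 hi; omega), mul_zero]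

/-- Multiplication by `λ₋₁(g c - ℓ)` after pull-back is injective. -/
theorem injective_lamAlt [CompactSpace T] (S : PBFree17.Setup π m) {O1 : P.Modules} (hO : PicF.IsInvertible O1)
    (hpos : ∀ i : ℕ, Nonempty (S.tw (i : ℤ) ≅ CohB1.tensorPow O1 i))
    (hKX : KRR.IsModel T KX PX φX) (hKP : KRR.IsModel P KP PP φP) {g : KX →+ KP} (hg : KRR.IsPull π φX φP g)
    {C : T.Modules} (hC : FlatMod.IsFinLocFreeOfRank (m + 1) C) (x : KX)
    (hx : KRR.lamAlt PP (g (φX (KRR.cl T C)) - φP (KRR.cl P O1)) * g x = 0) : x = 0 := by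
  classical
  have hCf := GrothLib.FinCov.isFinLocFree_of_rank hC
  set l := φP (KRR.cl P O1) with hldef
  have hl1 : FlatMod.IsFinLocFreeOfRank 1 O1 := GrothLib.PBDeg.rankOne_iff.2 hO
  have hl : ∀ i, 2 ≤ i → LambdaRing.LambdaOps.lam i l = 0 := fun i hi =>
    PP.lam_eq_zero l ((hKP.mem_pos_iff l).2 ⟨1, O1, le_rfl, hl1, rfl⟩) i
      (by rw [hldef, hKP.aug_cl 1 O1 hl1]; omega)
  have haug : PP.aug (g (φX (KRR.cl T C)) - l) = (m : ℤ) := by
    rw [map_sub, hg C hCf, hKP.aug_cl _ _ (GrothLib.OX.isFinLocFreeOfRank_pullback π hC), hldef,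
      hKP.aug_cl 1 O1 hl1]
    push_cast
    ring
  let b : ℕ → KX := fun j =>
    ∑ k ∈ Ico j (m + 1), (-1 : KX) ^ (k + j) * LambdaRing.LambdaOps.lam (k - j) (φX (KRR.cl T C))
  let gR : KX →+* KP := { toFun := g, map_one' := pull_one hKX hKP hg, map_mul' := pull_mul hKX hKP hg,
                          map_zero' := map_zero g, map_add' := map_add g }
  have key : KRR.lamAlt PP (g (φX (KRR.cl T C)) - l) * g x = ∑ j ∈ range (m + 1), g (b j * x) * l ^ j := by
    rw [KRR.lamAlt, haug, Int.toNat_natCast, Finset.sum_mul]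
    simp only [lam_sub_line _ l hl, Finset.mul_sum, Finset.sum_mul]
    rw [Finset.sum_comm' (t' := range (m + 1)) (s' := fun j => Ico j (m + 1)) (by intro k j; simp; omega)]
    refine sum_congr rfl fun j hj => ?_
    rw [show g (b j * x) = gR (b j) * g x from pull_mul hKX hKP hg _ _, map_sum, Finset.sum_mul, Finset.sum_mul]
    refine sum_congr rfl fun k hk => ?_
    rw [map_mul, map_pow, map_neg, map_one, show gR (LambdaRing.LambdaOps.lam (k - j) (φX (KRR.cl T C))) =
      LambdaRing.LambdaOps.lam (k - j) (g (φX (KRR.cl T C))) from pull_lam hKX hKP hg hCf _, pow_add, neg_pow l]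
    ring
  rw [key, ← Fin.sum_univ_eq_sum_range (fun j => g (b j * x) * l ^ j)] at hx
  have h0 := congrFun ((bijective_pow S hO hpos hKX hKP g hg).1 (a₁ := fun i : Fin (m + 1) => b i * x) (a₂ := 0)
    (hx.trans (by simp))) (Fin.last m)
  simpa [b, LambdaRing.LambdaOps.lam_zero, ← two_mul, pow_mul] using h0

end Model

end GrothLib.BlowK17
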