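import Groth.Agent.Lib.PushKR17.Push
import Groth.Agent.Lib.K0Sub.Regular
import Groth.Agent.Lib.K0Sub.Localization
import Groth.Agent.Lib.OX.LocFreeTensor
import Groth.Agent.Lib.Torus17.AffSpace

/-!
# Surjectivity of the blow-up sequence on `K` of bundles
-/

set_option autoImplicit false
set_option linter.all false
set_option backward.isDefEq.respectTransparency false

universe v u

open CategoryTheory CategoryTheory.Limits AlgebraicGeometry TopologicalSpace Opposite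

noncomputable section

namespace GrothLib.BlowK17

open GrothLib.K0Sub

/-- The Cartan map. -/
def cartan (X : Scheme.{u}) [IsLocallyNoetherian X] : SGA6.Kvb X →+ KZero.K0sub (cohP X) :=
  SGA6.mapSub (𝟭 X.Modules) (KRR.vbP X) (cohP X) fun M h => Euler.isCoh_of_isFinLocFree h

theorem cartan_cl {X : Scheme.{u}} [IsLocallyNoetherian X] {E : X.Modules} (hE : FlatMod.IsFinLocFree E) :
    cartan X (KRR.cl X E) = KZero.clSub (cohP X) E :=
  mapSub_clSub (𝟭 X.Modules) (cohP X) (fun M h => Euler.isCoh_of_isFinLocFree h) hE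

theorem cartan_R {X : Scheme.{u}} [IsLocallyNoetherian X] : ∀ (k : ℕ) (M : X.Modules) (c : SGA6.Kvb X),
    R (KRR.vbP X) (cohP X) k M c → cartan X c = KZero.clSub (cohP X) M
  | 0, M, c, hR => by
    rw [hR.2]
    exact cartan_cl hR.1
  | k + 1, M, c, hR => by
    obtain ⟨hM, S, c', hS, rfl, hL, hK, rfl⟩ := hR
    have h1 : Coh.IsCoh S.X₁ := isCoh_ker S hS (Euler.isCoh_of_isFinLocFree hL) hM
    rw [map_sub, cartan_R k _ _ hK, show cartan X (KZero.clSub (KRR.vbP X) S.X₂) = KZero.clSub (cohP X) S.X₂ from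
      cartan_cl hL, clSub_add (P := cohP X) hS h1 (Euler.isCoh_of_isFinLocFree hL) hM, add_sub_cancel_left]

theorem exists_R_regular {X : Scheme.{u}} [IsNoetherian X] (hX : KRR.HasEnoughLocFree X)
    (hreg : ∀ x : X, IsRegularLocalRing (X.presheaf.stalk x)) (M : X.Modules) (hM : Coh.IsCoh M) :
    ∃ (n : ℕ) (c : SGA6.Kvb X), R (KRR.vbP X) (cohP X) n M c := by
  obtain ⟨n, hn⟩ := exists_pd_regular hX hreg hM
  exact ⟨n, exists_R_of_pd hX n M hM hn⟩

theorem cartan_bijective {X : Scheme.{u}} [IsNoetherian X] (hX : KRR.HasEnoughLocFree X)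
    (hreg : ∀ x : X, IsRegularLocalRing (X.presheaf.stalk x)) : Function.Bijective (cartan X) :=
  bijective_mapSub (resHyp_vb hX) (exists_R_regular hX hreg)

theorem surjective {Y Y₁ X₁ V : Scheme.{u}} [IsNoetherian Y] [IsNoetherian Y₁] [IsNoetherian X₁] [IsLocallyNoetherian V]
    (φ : Y₁ ⟶ Y) (f₁ : X₁ ⟶ Y₁) [IsClosedImmersion f₁] (j₁ : V ⟶ Y₁) (j₀ : V ⟶ Y)
    [IsOpenImmersion j₁] [IsOpenImmersion j₀] (hj : j₁ ≫ φ = j₀) (hV : Set.range j₁ = (Set.range f₁)ᶜ)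
    (hY : KRR.HasEnoughLocFree Y) (hYreg : ∀ y : Y, IsRegularLocalRing (Y.presheaf.stalk y))
    (hY₁ : KRR.HasEnoughLocFree Y₁) (hY₁reg : ∀ y : Y₁, IsRegularLocalRing (Y₁.presheaf.stalk y))
    (hX₁ : KRR.HasEnoughLocFree X₁) (hX₁reg : ∀ y : X₁, IsRegularLocalRing (X₁.presheaf.stalk y))
    {KY KX₁ KY₁ : Type v} [CommRing KY] [CommRing KX₁] [CommRing KY₁]
    (φY : SGA6.Kvb Y →+ KY) (φX₁ : SGA6.Kvb X₁ →+ KX₁) (φY₁ : SGA6.Kvb Y₁ →+ KY₁) (hφY₁ : Function.Bijective φY₁)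
    (gφ : KY →+ KY₁) (hgφ : KRR.IsPull φ φY φY₁ gφ) (gf₁ : KX₁ →+ KY₁) (hgf₁ : KRR.IsPushCl f₁ φX₁ φY₁ gf₁)
    (y₁ : KY₁) : ∃ (x₁ : KX₁) (y : KY), gf₁ x₁ + gφ y = y₁ := by
  let e := AddEquiv.ofBijective φY₁ hφY₁
  let res₁ := Scheme.Modules.restrictFunctor j₁
  haveI : PreservesFiniteLimits (res j₁) :=
    preservesFiniteLimits_of_natIso (Scheme.Modules.restrictFunctorIsoPullback j₁).symm
  haveI : PreservesFiniteColimits (res j₁) :=
    preservesFiniteColimits_of_natIso (Scheme.Modules.restrictFunctorIsoPullback j₁).symm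
  haveI : (res j₁).Additive := Functor.additive_of_iso (Scheme.Modules.restrictFunctorIsoPullback j₁).symm
  obtain ⟨_, hpl, hpc⟩ := K0Sub.pushforward_exact f₁
  haveI := hpl
  haveI := hpc
  have hpush : (cartan Y₁).comp (e.symm.toAddMonoidHom.comp (gf₁.comp φX₁)) = (pushK f₁).comp (cartan X₁) :=
    K0Sub.hom_ext (P := KRR.vbP X₁) fun E hE => by
      obtain ⟨n, c, hc⟩ := exists_R_regular hY₁ hY₁reg _ (K0Sub.isCoh_push f₁ (Euler.isCoh_of_isFinLocFree hE))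
      show cartan Y₁ (e.symm (gf₁ (φX₁ (KRR.cl X₁ E)))) = pushK f₁ (cartan X₁ (KRR.cl X₁ E))
      rw [PushKR17.pushCl_cl hY₁ f₁ hgf₁ hE ⟨n, hc⟩, show e.symm (φY₁ c) = c from e.symm_apply_apply c,
        cartan_R n _ c hc, cartan_cl hE]
      exact (mapSub_clSub (Scheme.Modules.pushforward f₁) (cohP Y₁) (fun _ h => isCoh_push f₁ h)
        (Euler.isCoh_of_isFinLocFree hE)).symm
  let θ : SGA6.Kvb Y →+ SGA6.Kvb Y₁ := e.symm.toAddMonoidHom.comp (gφ.comp φY)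
  have hθ : ∀ E : Y.Modules, FlatMod.IsFinLocFree E →
      θ (KRR.cl Y E) = KRR.cl Y₁ ((Scheme.Modules.pullback φ).obj E) := fun E hE => by
    show e.symm (gφ (φY (KRR.cl Y E))) = _
    rw [hgφ E hE]
    exact e.symm_apply_apply _
  have hcomm : (Torus17.pullH j₁).comp ((cartan Y₁).comp θ) = (Torus17.pullH j₀).comp (cartan Y) :=
    K0Sub.hom_ext (P := KRR.vbP Y) fun E hE => by
      show Torus17.pullH j₁ (cartan Y₁ (θ (KRR.cl Y E))) = Torus17.pullH j₀ (cartan Y (KRR.cl Y E))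
      rw [hθ E hE, cartan_cl (OX.isFinLocFree_pullback φ hE), cartan_cl hE,
        Torus17.pullH_cl j₁ (Euler.isCoh_of_isFinLocFree (OX.isFinLocFree_pullback φ hE)),
        Torus17.pullH_cl j₀ (Euler.isCoh_of_isFinLocFree hE)]
      exact clSub_coh_iso ((Scheme.Modules.pullbackComp j₁ φ).app E ≪≫ (Scheme.Modules.pullbackCongr hj).app E)
  have hker : ∀ x, Torus17.pullH j₁ x = 0 → x ∈ (pushK f₁).range := fun x hx => by
    refine ker_le_range j₁ f₁ hV (fun M hM => Cohom.isCoh_restrict M hM j₁) ?_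
    rw [AddMonoidHom.mem_ker, ← hx]
    refine DFunLike.congr_fun (K0Sub.hom_ext (P := cohP Y₁) fun M hM => ?_) x
    rw [Torus17.pullH_cl j₁ hM]
    exact (mapSub_clSub (res j₁) (cohP V) (fun M hM => Cohom.isCoh_restrict M hM j₁) hM).trans
      (clSub_coh_iso ((Scheme.Modules.restrictFunctorIsoPullback j₁).app M))
  let T : AddSubgroup KY₁ := gf₁.range ⊔ gφ.range
  suffices hT : ∀ F : Y₁.Modules, FlatMod.IsFinLocFree F → φY₁ (KRR.cl Y₁ F) ∈ T by
    have h0 : (QuotientAddGroup.mk' T).comp φY₁ = 0 := K0Sub.hom_ext (P := KRR.vbP Y₁) fun F hF =>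
      (QuotientAddGroup.eq_zero_iff _).2 (hT F hF)
    have hy : y₁ ∈ T := by
      rw [← QuotientAddGroup.eq_zero_iff]
      simpa [e] using DFunLike.congr_fun h0 (e.symm y₁)
    obtain ⟨_, ⟨x₁, rfl⟩, _, ⟨y, rfl⟩, h⟩ := AddSubgroup.mem_sup.1 hy
    exact ⟨x₁, y, h⟩
  intro F hF
  have hFc := Euler.isCoh_of_isFinLocFree hF
  obtain ⟨G, hG, ⟨eG⟩⟩ := exists_extension j₀ _ (ModDesc.isCoh_pullback j₁ F hFc)
  obtain ⟨n, c, hc⟩ := exists_R_regular hY hYreg G hG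
  obtain ⟨a, ha⟩ := hker (cartan Y₁ (KRR.cl Y₁ F) - cartan Y₁ (θ c)) (by
    rw [map_sub, cartan_cl hF, show Torus17.pullH j₁ (cartan Y₁ (θ c)) = Torus17.pullH j₀ (cartan Y c) from
      DFunLike.congr_fun hcomm c, cartan_R n G c hc, Torus17.pullH_cl j₁ hFc, Torus17.pullH_cl j₀ hG, sub_eq_zero]
    exact clSub_coh_iso (eG.symm ≪≫ (Scheme.Modules.restrictFunctorIsoPullback j₀).app G))
  obtain ⟨b, rfl⟩ := (cartan_bijective hX₁ hX₁reg).2 a
  rw [show pushK f₁ (cartan X₁ b) = cartan Y₁ (e.symm (gf₁ (φX₁ b))) from (DFunLike.congr_fun hpush b).symm,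
    eq_sub_iff_add_eq, ← map_add] at ha
  have h := congrArg φY₁ ((cartan_bijective hY₁ hY₁reg).1 ha)
  rw [map_add, show φY₁ (e.symm (gf₁ (φX₁ b))) = gf₁ (φX₁ b) from e.apply_symm_apply _, show φY₁ (θ c) = gφ (φY c) from e.apply_symm_apply _] at h
  exact h ▸ AddSubgroup.add_mem_sup ⟨_, rfl⟩ ⟨_, rfl⟩

end GrothLib.BlowK17
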