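import Groth.Agent.Lib.OX.CompactBdd
import Groth.Agent.Lib.OX.AffineLocal
import Groth.Agent.Lib.OX.TildePerfect
import Groth.Agent.Lib.OX.AffineApps
import Groth.Agent.Lib.DCxRing.Regular

/-! # Perfect objects on regular Noetherian schemes are the bounded coherent ones -/

set_option autoImplicit false
universe u

open CategoryTheory CategoryTheory.Limits AlgebraicGeometry Opposite TopologicalSpace

attribute [local instance] HasDerivedCategory.standard

namespace GrothLib.BlowK17

open GrothLib.OX

variable {X : Scheme.{u}}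

theorem subsingleton_of_isZero_tilde {R : CommRingCat.{u}} (N : ModuleCat.{u} R) :
    IsZero ((tilde.functor R).obj N) → Subsingleton N := by
    intro h
    have : (moduleSpecΓFunctor (R := R)).Additive := tilde.adjunction.right_adjoint_additive
    have : Subsingleton ((tilde.functor R ⋙ moduleSpecΓFunctor).obj N) :=
      ModuleCat.subsingleton_of_isZero ((moduleSpecΓFunctor (R := R)).map_isZero h)
    exact (tilde.toTildeΓNatIso.app N).toLinearEquiv.toEquiv.subsingleton

/-- Bounded coherent objects of a regular scheme are perfect. -/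
theorem isPerfect_of_regular17 [IsLocallyNoetherian X]
    (hreg : ∀ x : X, IsRegularLocalRing (X.presheaf.stalk x)) {K : DCoh.D X} (hK : DCoh.IsCohD K)
    {a b : ℤ} [K.IsGE a] [K.IsLE b] : DCoh.IsPerfect K := by
  refine isPerfect_of_local fun x => ?_
  obtain ⟨U, hU, hx, -⟩ := exists_isAffineOpen_mem_and_subset (x := x) (U := ⊤) trivial
  let j := hU.fromSpec
  refine ⟨_, j, inferInstance, mem_range_fromSpec hU hx, ?_⟩
  have : IsLocallyNoetherian (Spec Γ(X, U)) := LocallyOfFiniteType.isLocallyNoetherian j
  have : IsNoetherianRing Γ(X, U) := isLocallyNoetherian_Spec.1 inferInstance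
  obtain ⟨M, ⟨e⟩⟩ := exists_tildeD_rep (fun i => (hK i).1) j
  refine isPerfect_of_iso ((isPerfect_tildeD_iff (A := Γ(X, U)) M).2 ?_) e
  let t : ∀ i, (Scheme.Modules.restrictFunctor j).obj (DCoh.HD K i) ≅
      (tilde.functor Γ(X, U)).obj ((DerivedCategory.homologyFunctor (ModuleCat.{u} Γ(X, U)) i).obj M) := fun i =>
    (HDResIso j K i).symm ≪≫ (DerivedCategory.homologyFunctor _ i).mapIso e.symm ≪≫ HDTildeIso M i
  refine DR.isPerfect_of_regular (fun p => ?_) M a b (fun i hi => ?_) fun i => ?_
  · have hy : j p ∈ U := by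
      have h : j p ∈ j.opensRange := ⟨p, rfl⟩
      rwa [IsAffineOpen.opensRange_fromSpec] at h
    have hprime : hU.primeIdealOf ⟨j p, hy⟩ = p :=
      j.isOpenEmbedding.injective (hU.fromSpec_primeIdealOf ⟨j p, hy⟩)
    letI := TopCat.Presheaf.algebra_section_stalk X.presheaf (⟨j p, hy⟩ : U)
    have hl := hU.isLocalization_stalk ⟨j p, hy⟩
    rw [hprime] at hl
    haveI : IsLocalization.AtPrime (X.presheaf.stalk (j p)) p.asIdeal := hl
    have := hreg (j p)
    exact IsRegularLocalRing.of_ringEquiv
      (IsLocalization.algEquiv p.asIdeal.primeCompl (X.presheaf.stalk (j p)) (Localization.AtPrime p.asIdeal)).toRingEquiv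
  · refine subsingleton_of_isZero_tilde _ (IsZero.of_iso ((Scheme.Modules.restrictFunctor j).map_isZero ?_) (t i).symm)
    rcases hi with hi | hi
    · exact DerivedCategory.isZero_of_isGE K a i hi
    · exact DerivedCategory.isZero_of_isLE K b i hi
  · exact (isCoh_tilde_iff _).1 (QCoh.isCoh_of_iso (t i) (Cohom.isCoh_restrict _ (hK i) j))

end GrothLib.BlowK17
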