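import Groth.Agent.Lib.PushKR17.Push
import Groth.Agent.Lib.OX.OneDegLocus
import Groth.Agent.Lib.BlowK17.RegPerf
import Groth.Agent.Lib.KSix19.ProjPush.Perfect
import Groth.Agent.Lib.KDer.Heart
import Groth.Agent.S0887
import Groth.Agent.S1028

/-!
# Classes of perfect complexes against classes of bundles
-/

set_option autoImplicit false
set_option linter.all false
set_option backward.isDefEq.respectTransparency false

universe u

open CategoryTheory CategoryTheory.Limits AlgebraicGeometry CategoryTheory.Pretriangulated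
open scoped ZeroObject
attribute [local instance] HasDerivedCategory.standard

noncomputable section

namespace GrothLib.BlowK17

open GrothLib.K0Sub

variable {X Y : Scheme.{u}}

theorem perfP_closed (X : Scheme.{u}) : (SGA6.perfP X).IsClosedUnderIsomorphisms :=
  ⟨fun i h => OX.isPerfect_of_iso h i⟩

theorem perfP_zero (X : Scheme.{u}) : SGA6.perfP X (0 : DCoh.D X) := OX.isPerfect_of_isZero_obj (isZero_zero _)

theorem clTr_congr {A B : DCoh.D X} (e : A ≅ B) : KZero.clTr (SGA6.perfP X) A = KZero.clTr (SGA6.perfP X) B :=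
  haveI := perfP_closed X
  KDer.clTr_iso (perfP_zero X) e

theorem mapTr_clTr (F : DCoh.D X ⥤ DCoh.D Y) [F.CommShift ℤ] [F.IsTriangulated]
    (h : ∀ K, SGA6.perfP X K → SGA6.perfP Y (F.obj K)) {K : DCoh.D X} (hK : SGA6.perfP X K) :
    SGA6.mapTr F (SGA6.perfP X) (SGA6.perfP Y) h (KZero.clTr (SGA6.perfP X) K) =
      KZero.clTr (SGA6.perfP Y) (F.obj K) := by
  rw [KDer.clTr_eq_mk hK, KDer.clTr_eq_mk (h K hK)]
  simp only [SGA6.mapTr]
  rfl

theorem isPerfect_inD_vb {E : X.Modules} (hE : FlatMod.IsFinLocFree E) : DCoh.IsPerfect (DCoh.inD X E) :=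
  OX.isPerfect_of_iso (KSix19.ProjPush.isPerfect_Q _ (OX.strictlyPerfect_single 0 hE))
    ((DerivedCategory.singleFunctorIsoCompQ X.Modules 0).app E).symm

theorem nonempty_lpull_inD (f : Y ⟶ X) [DCoh.HasLpull f] {E : X.Modules} (hE : FlatMod.IsFinLocFree E) :
    Nonempty ((DCoh.Lpull f).obj (DCoh.inD X E) ≅ DCoh.inD Y ((Scheme.Modules.pullback f).obj E)) := by
  obtain ⟨v⟩ := OX.lpull_value f _ (OX.isKFlat_of_strictlyPerfect (OX.strictlyPerfect_single 0 hE))
  exact ⟨(DCoh.Lpull f).mapIso ((DerivedCategory.singleFunctorIsoCompQ X.Modules 0).app E) ≪≫ v ≪≫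
    DerivedCategory.Q.mapIso (OX.pullSingleIso f 0 E) ≪≫
    ((DerivedCategory.singleFunctorIsoCompQ Y.Modules 0).app _).symm⟩

/-- The comparison of classes of bundles with classes of perfect complexes. -/
theorem exists_Phi [IsNoetherian X] (hX : PerfAux.HasResolutionProperty X) :
    ∃ Φ : SGA6.Kvb X →+ SGA6.Kperf X, Function.Surjective Φ ∧
      (∀ E, FlatMod.IsFinLocFree E → Φ (KRR.cl X E) = KZero.clTr (SGA6.perfP X) (DCoh.inD X E)) ∧
      ∀ (k : ℕ) (M : X.Modules) (c : SGA6.Kvb X), R (KRR.vbP X) (cohP X) k M c →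
        DCoh.IsPerfect (DCoh.inD X M) ∧ Φ c = KZero.clTr (SGA6.perfP X) (DCoh.inD X M) := by
  obtain ⟨φ, hφ⟩ := Groth.Agent.S1028.result X hX
  refine ⟨φ.toAddMonoidHom, φ.surjective, hφ, fun k => ?_⟩
  induction k with
  | zero =>
    intro M c hR
    exact ⟨isPerfect_inD_vb hR.1, by rw [hR.2]; exact hφ M hR.1⟩
  | succ k ih =>
    intro M c hR
    obtain ⟨hM, S, c', hS, rfl, hL, hK, rfl⟩ := hR
    obtain ⟨h₁, e₁⟩ := ih _ _ hK
    have h₂ := isPerfect_inD_vb hL
    have hT := hS.singleTriangle_distinguished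
    have h₃ : DCoh.IsPerfect (DCoh.inD X S.X₃) := (Groth.Agent.S0887.result _ hT).1 h₁ h₂
    refine ⟨h₃, ?_⟩
    rw [map_sub, show φ.toAddMonoidHom (KZero.clSub (KRR.vbP X) S.X₂) = _ from hφ _ hL, e₁, sub_eq_iff_eq_add']
    exact KDer.clTr_add (Q := SGA6.perfP X) hT h₁ h₂ h₃

theorem isPerfect_inD_of_regular [IsNoetherian X] (hreg : ∀ x : X, IsRegularLocalRing (X.presheaf.stalk x))
    {M : X.Modules} (hM : Coh.IsCoh M) : DCoh.IsPerfect (DCoh.inD X M) :=
  isPerfect_of_regular17 hreg (fun i => by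
    by_cases hi : i = 0
    · subst hi
      exact QCoh.isCoh_of_iso ((DerivedCategory.singleFunctorCompHomologyFunctorIso X.Modules 0).app M).symm hM
    · exact OX.isCoh_of_isZero (if h : 0 < i then DerivedCategory.isZero_of_isLE _ 0 i h
        else DerivedCategory.isZero_of_isGE _ 0 i (by omega))) (a := 0) (b := 0)

end GrothLib.BlowK17
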