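import Groth.Agent.Lib.BlowUp17.Smooth
import Groth.Agent.Lib.BlowUp17.Generization
import Groth.Agent.Lib.BlowUpProper.Basic
import Groth.Agent.Lib.LocProp.SmoothRegularScheme
import Groth.Agent.Lib.PushKR17.Acy
import Groth.Agent.Lib.RelReg.Stalk
import Groth.Agent.S1109
import Groth.Prelude.Def_KRR

/-!
# Blow-ups of regular schemes along regular centres; enough locally free modules on regular schemes
-/

set_option autoImplicit false
set_option linter.all false
set_option backward.isDefEq.respectTransparency false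

universe u

open CategoryTheory CategoryTheory.Limits AlgebraicGeometry TopologicalSpace Opposite

noncomputable section

namespace GrothLib.BlowK17

/-- A regular separated Noetherian scheme has enough locally free modules. -/
theorem hasEnoughLocFree_of_regular (X : Scheme.{u}) [X.IsSeparated] [IsNoetherian X]
    (hreg : ∀ x : X, IsRegularLocalRing (X.presheaf.stalk x)) : KRR.HasEnoughLocFree X :=
  fun F hF => Groth.Agent.S1109.result X hreg (fun U V hU hV => hU.inf hV) F hF.1 hF.2

theorem isSeparated_of_hom {X S : Scheme.{u}} [S.IsSeparated] (q : X ⟶ S) [IsSeparated q] : X.IsSeparated :=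
  ⟨by rw [← terminal.comp_from q]; infer_instance⟩

theorem isSeparated_of_isQProjOver {Y S : Scheme.{u}} {q : Y ⟶ S} (h : KRR.IsQProjOver q) : IsSeparated q := by
  obtain ⟨n, i, hi, rfl⟩ := h
  infer_instance

variable {X Y X₁ Y₁ : Scheme.{u}} {f : X ⟶ Y} {φ : Y₁ ⟶ Y} {f₁ : X₁ ⟶ Y₁} {ψ : X₁ ⟶ X}

/-- The exceptional divisor is smooth over the centre. -/
theorem smooth_psi (hf : Mor2.IsRegularClosedImmersion f) (hφ : _root_.BlowUp.IsBlowUp φ f.ker)
    (hsq : IsPullback f₁ ψ φ f) : Smooth ψ := by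
  haveI := hf.1
  haveI : IsClosedImmersion f₁ := MorphismProperty.of_isPullback hsq.flip hf.1
  let E := _root_.BlowUp.exceptional φ f.ker
  let g := IsClosedImmersion.lift f (E.subschemeι ≫ φ) (by
    rw [← Scheme.IdealSheafData.map_ker, Scheme.IdealSheafData.ker_subschemeι]
    exact Scheme.IdealSheafData.le_map_iff_comap_le.2 le_rfl)
  have hg : g ≫ f = E.subschemeι ≫ φ := IsClosedImmersion.lift_fac _ _ _
  haveI : Smooth g := GrothLib.BlowUp17.smooth_exceptional f hf φ hφ g hg
  have hpb : IsPullback E.subschemeι g φ f :=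
    isPullback_of_isClosedImmersion E.subschemeι f g φ hg.symm
      (Scheme.IdealSheafData.ker_subschemeι _).symm
  rw [← hsq.isoIsPullback_hom_snd _ _ hpb, MorphismProperty.cancel_left_of_respectsIso @Smooth]
  infer_instance

theorem isRegular_exceptional (hf : Mor2.IsRegularClosedImmersion f) (hφ : _root_.BlowUp.IsBlowUp φ f.ker)
    (hsq : IsPullback f₁ ψ φ f) [IsLocallyNoetherian X] (hX : ∀ x : X, IsRegularLocalRing (X.presheaf.stalk x))
    (x : X₁) : IsRegularLocalRing (X₁.presheaf.stalk x) := by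
  haveI := smooth_psi hf hφ hsq
  exact (GrothLib.LocProp.isRegularLocalRing_stalk_iff_of_mem_smoothLocus ψ x
    (by rw [Scheme.Hom.smoothLocus_eq_top ψ]; trivial)).2 (hX _)

theorem isRegular_blowUp (hf : Mor2.IsRegularClosedImmersion f) (hφ : _root_.BlowUp.IsBlowUp φ f.ker)
    (hsq : IsPullback f₁ ψ φ f) [IsLocallyNoetherian Y]
    (hY : ∀ y : Y, IsRegularLocalRing (Y.presheaf.stalk y)) (hX : ∀ x : X, IsRegularLocalRing (X.presheaf.stalk x))
    (y : Y₁) : IsRegularLocalRing (Y₁.presheaf.stalk y) := by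
  haveI := hf.1
  haveI := GrothLib.BlowUpProper.isProper_of_isBlowUp hφ
  haveI : IsLocallyNoetherian Y₁ := LocallyOfFiniteType.isLocallyNoetherian φ
  haveI : IsLocallyNoetherian X := LocallyOfFiniteType.isLocallyNoetherian f
  haveI : IsClosedImmersion f₁ := MorphismProperty.of_isPullback hsq.flip hf.1
  by_cases hy : φ y ∈ f.ker.support
  swap
  · obtain ⟨U, hU⟩ : ∃ U : Y.Opens, U = f.ker.support.compl := ⟨_, rfl⟩
    haveI : IsIso (φ ∣_ U) := hU ▸ GrothLib.BlowUp.isIso_off_center hφ
    have hyU : φ y ∈ U := hU ▸ hy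
    haveI : IsRegularLocalRing (U.toScheme.presheaf.stalk ((φ ∣_ U) ⟨y, hyU⟩)) := by
      haveI := hY (U.ι ((φ ∣_ U) ⟨y, hyU⟩))
      exact IsRegularLocalRing.of_ringEquiv (U.stalkIso _).commRingCatIsoToRingEquiv.symm
    haveI : IsRegularLocalRing ((φ ⁻¹ᵁ U).toScheme.presheaf.stalk ⟨y, hyU⟩) :=
      IsRegularLocalRing.of_ringEquiv (asIso ((φ ∣_ U).stalkMap ⟨y, hyU⟩)).commRingCatIsoToRingEquiv
    exact IsRegularLocalRing.of_ringEquiv ((φ ⁻¹ᵁ U).stalkIso ⟨y, hyU⟩).commRingCatIsoToRingEquiv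
  obtain ⟨d, rfl⟩ : y ∈ Set.range f₁ := by
    have hr : φ y ∈ Set.range f := by
      have h : (f.ker.support : Set Y) = Set.range f := by
        rw [Scheme.Hom.support_ker]
        exact f.isClosedEmbedding.isClosed_range.closure_eq
      exact h ▸ hy
    rw [← hsq.isoPullback_hom_fst, Scheme.Hom.comp_base, TopCat.coe_comp,
      Set.range_comp, Set.range_eq_univ.2 (hsq.isoPullback.hom.surjective), Set.image_univ, Scheme.Pullback.range_fst]
    exact hr
  haveI := isRegular_exceptional hf hφ hsq hX d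
  have hk : f₁.ker = _root_.BlowUp.exceptional φ f.ker := by
    rw [← hsq.isoPullback_hom_fst, Scheme.Hom.ker_comp_of_isIso]
    exact Scheme.IdealSheafData.ker_fst_of_isClosedImmersion f φ
  obtain ⟨V, hV, s, hs, hI⟩ := hφ.1 (f₁ d)
  let sg := Y₁.presheaf.germ V.1 _ hV s
  have hker : RingHom.ker (f₁.stalkMap d).hom = Ideal.span {sg} := by
    rw [GrothLib.RelReg.ker_stalkMap_eq_map f₁ V.2 inferInstance d hV, ← Scheme.Hom.ker_apply f₁ V, hk, hI,
      Ideal.map_span, Set.image_singleton]
  have hsurj := SurjectiveOnStalks.stalkMap_surjective f₁ d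
  haveI : IsRegularLocalRing (Y₁.presheaf.stalk (f₁ d) ⧸ Ideal.span {sg}) :=
    IsRegularLocalRing.of_ringEquiv (R := X₁.presheaf.stalk d)
      ((Ideal.quotEquivOfEq hker.symm).trans (RingHom.quotientKerEquivOfSurjective hsurj)).symm
  refine GrothLib.RegLoc.isRegularLocalRing_of_quotient (x := sg) ?_ (GrothLib.BlowUp.germ_mem_nonZeroDivisors hs hV)
  rw [← Ideal.span_singleton_le_iff_mem, ← hker]
  exact IsLocalRing.le_maximalIdeal (RingHom.ker_ne_top _)

end GrothLib.BlowK17
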