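import Groth.Agent.Lib.SiteDer.PushCoh
import Groth.Agent.Lib.SiteDer.Push
import Groth.Agent.Lib.KSix19.ProjPush.Perfect
import Mathlib.Algebra.Homology.DerivedCategory.TStructure

/-!
# Acyclic modules go to their direct images in the derived category
-/

set_option autoImplicit false
set_option linter.all false
set_option backward.isDefEq.respectTransparency false

universe u

open CategoryTheory CategoryTheory.Limits AlgebraicGeometry
attribute [local instance] HasDerivedCategory.standard

noncomputable section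

namespace GrothLib.BlowK17

/-- A module without higher direct images goes to its direct image. -/
theorem nonempty_rpush_inD {X Y : Scheme.{u}} (f : X ⟶ Y)
    [HasInjectiveResolutions X.Modules] [DCoh.HasRpush f] (P : X.Modules)
    (hz : ∀ q : ℕ, q ≠ 0 → IsZero ((Coh.Rpush f q).obj P)) :
    Nonempty ((DCoh.Rpush f).obj (DCoh.inD X P) ≅ DCoh.inD Y ((Scheme.Modules.pushforward f).obj P)) := by
  let D := (SiteDer.Rres (OX.rmor f)).obj (DCoh.inD X P)
  have hD : ∀ q : ℕ, Nonempty ((DerivedCategory.homologyFunctor Y.Modules (q : ℤ)).obj D ≅ (Coh.Rpush f q).obj P) :=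
    fun q => SiteDer.nonempty_homology_Rres_single (OX.rmor f) P q
  have hzero : ∀ i : ℤ, i ≠ 0 → IsZero ((DerivedCategory.homologyFunctor Y.Modules i).obj D) := fun j hj => by
    by_cases h0 : 0 ≤ j
    · obtain ⟨q, rfl⟩ := Int.eq_ofNat_of_zero_le h0
      exact (hz q (by omega)).of_iso (hD q).some
    · haveI : DerivedCategory.IsGE (DCoh.inD X P) 0 := inferInstance
      haveI : D.IsGE 0 := SiteDer.isGE_Rres (OX.rmor f) (DCoh.inD X P) 0
      exact DerivedCategory.isZero_of_isGE D 0 j (by omega)
  haveI : D.IsGE (0 : ℤ) := (DerivedCategory.isGE_iff _ _).2 fun i hi => hzero i (by omega)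
  haveI : D.IsLE (0 : ℤ) := (DerivedCategory.isLE_iff _ _).2 fun i hi => hzero i (by omega)
  obtain ⟨M, ⟨eM⟩⟩ := DerivedCategory.exists_iso_singleFunctor_obj_of_isGE_of_isLE D (0 : ℤ)
  let eN : M ≅ (Scheme.Modules.pushforward f).obj P :=
    ((DerivedCategory.singleFunctorCompHomologyFunctorIso Y.Modules (0 : ℤ)).app M).symm ≪≫
      (DerivedCategory.homologyFunctor Y.Modules (0 : ℤ)).mapIso eM.symm ≪≫ (hD 0).some ≪≫
      (Scheme.Modules.pushforward f).rightDerivedZeroIsoSelf.app P
  exact ⟨(OX.rpushIsoRres f).app _ ≪≫ eM ≪≫ (DerivedCategory.singleFunctor Y.Modules (0 : ℤ)).mapIso eN⟩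

end GrothLib.BlowK17
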